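import Groth.Agent.CechFil.Stair
import Groth.Agent.SiteBase.KInjSections
import Groth.Agent.SiteBase.Cech
import Groth.Agent.SiteBase.Top
import Groth.Agent.SiteBase.CechSurjective
import Groth.Agent.S0455
import Groth.Prelude.Def_CohB1

/-!
# The bicomplex of Čech cochains of a complex of injective sheaves
-/

set_option autoImplicit false
set_option backward.isDefEq.respectTransparency false
set_option backward.isDefEq.respectTransparency.types false

universe u

open CategoryTheory CategoryTheory.Limits Opposite TopologicalSpace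
open Groth.Agent.SiteBase

noncomputable section

namespace Groth.Agent.CechFil

section Homology

variable (K : CochainComplex AddCommGrpCat.{u} ℕ) (p : ℕ)

/-- Cycles of a complex of groups. -/
def cyclesEquiv : (K.d p (p + 1)).hom.ker ≃+ K.cycles p :=
  (AddEquiv.ofBijective
    (AddMonoidHom.codRestrict (K.iCycles p).hom _ fun x => congrArg (fun t => t.hom x) (K.iCycles_d p (p + 1))) (by
      have h : (ShortComplex.mk (K.iCycles p) (K.d p (p + 1)) (K.iCycles_d p (p + 1))).Exact :=
        ShortComplex.exact_of_f_is_kernel _ (K.cyclesIsKernel p (p + 1) (by simp))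
      refine ⟨fun x y hxy => (AddCommGrpCat.mono_iff_injective _).1 inferInstance (congrArg Subtype.val hxy), ?_⟩
      rintro ⟨z, hz⟩
      obtain ⟨x, hx⟩ := (ShortComplex.ab_exact_iff _).1 h z hz
      exact ⟨x, Subtype.ext hx⟩)).symm

/-- The class of a cycle of a complex of groups. -/
def classOf : (K.d p (p + 1)).hom.ker →+ K.homology p :=
  (K.homologyπ p).hom.comp (cyclesEquiv K p).toAddMonoidHom

lemma iCycles_cyclesEquiv (c : (K.d p (p + 1)).hom.ker) : (K.iCycles p).hom (cyclesEquiv K p c) = c.1 :=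
  congrArg Subtype.val ((cyclesEquiv K p).symm_apply_apply c)

lemma classOf_eq_zero {p j : ℕ} (hj : (ComplexShape.up ℕ).prev p = j) (c : (K.d p (p + 1)).hom.ker)
    (h : classOf K p c = 0) : ∃ y, (K.d j p).hom y = c.1 := by
  have e : (ShortComplex.mk (K.toCycles j p) (K.homologyπ p) (K.toCycles_comp_homologyπ j p)).Exact :=
    ShortComplex.exact_of_g_is_cokernel _ (K.homologyIsCokernel j p hj)
  obtain ⟨y, hy⟩ := (ShortComplex.ab_exact_iff _).1 e (cyclesEquiv K p c) h
  refine ⟨y, ?_⟩
  have h2 := congrArg (fun t => t.hom y) (K.toCycles_i j p)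
  exact h2.symm.trans ((congrArg (K.iCycles p).hom hy).trans (iCycles_cyclesEquiv K p c))

end Homology

variable {X : TopCat.{u}} [HasDerivedCategory.{u} (CohTop.Ab X)]
  (I : CochainComplex (CohTop.Ab X) ℤ) [CochainComplex.IsKInjective I]

open KInjSections

/-- Sections over an open of the terms. -/
abbrev sec (r : ℤ) (W : Opens X) : AddCommGrpCat.{u} := (I.X r).obj.obj (op W)

/-- The differential on sections. -/
abbrev dW (r r' : ℤ) (W : Opens X) : sec I r W →+ sec I r' W := ((I.d r r').hom.app (op W)).hom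

/-- Cycles in sections over an open. -/
def secCycles (r : ℤ) (W : Opens X) : ((preCx I).cycles r).obj (op W) ≃+ (dW I r (r + 1) W).ker :=
  AddEquiv.ofBijective (AddMonoidHom.codRestrict (((preCx I).iCycles r).app (op W)).hom _
      fun x => congrArg (fun t => (t.app (op W)).hom x) ((preCx I).iCycles_d r (r + 1))) (by
    refine ⟨fun x y hxy => ?_, ?_⟩
    · have : Mono (((preCx I).iCycles r).app (op W)) := inferInstance
      exact (AddCommGrpCat.mono_iff_injective _).1 this (congrArg Subtype.val hxy)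
    · rintro ⟨z, hz⟩
      obtain ⟨x, hx⟩ := exists_cycle I r W z hz
      exact ⟨x, Subtype.ext hx⟩)

/-- The class of a cycle in sections over an open. -/
def clsW (r : ℤ) (W : Opens X) :
    (dW I r (r + 1) W).ker →+ CohCx.HDU (DerivedCategory.Q.obj I) r W :=
  ((cycleMap I r).app (op W)).hom.comp (secCycles I r W).symm.toAddMonoidHom

lemma secCycles_symm_val (r : ℤ) (W : Opens X) (z : (dW I r (r + 1) W).ker) :
    (((preCx I).iCycles r).app (op W)).hom ((secCycles I r W).symm z) = z.1 :=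
  congrArg Subtype.val ((secCycles I r W).apply_symm_apply z)

lemma clsW_surjective (r : ℤ) (W : Opens X) : Function.Surjective (clsW I r W) :=
  (cycleMap_surjective I r W).comp (secCycles I r W).symm.surjective

lemma clsW_eq_zero_iff (r r' : ℤ) (h : r + 1 = r') (W : Opens X) (z : (dW I r' (r' + 1) W).ker) :
    clsW I r' W z = 0 ↔ ∃ y, dW I r r' W y = z.1 := by
  obtain rfl : r = r' - 1 := by lia
  refine (cycleMap_eq_zero_iff I r' W _).trans ?_
  erw [secCycles_symm_val]

lemma dW_res (r r' : ℤ) {V W : Opens X} (i : V ⟶ W) (z : sec I r W) :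
    dW I r r' V (((I.X r).obj.map i.op).hom z) = ((I.X r').obj.map i.op).hom (dW I r r' W z) :=
  congrArg (fun t => t.hom z) ((I.d r r').hom.naturality i.op)

lemma res_mem (r : ℤ) {V W : Opens X} (i : V ⟶ W) (z : (dW I r (r + 1) W).ker) :
    ((I.X r).obj.map i.op).hom z.1 ∈ (dW I r (r + 1) V).ker := by
  rw [AddMonoidHom.mem_ker, dW_res, (z.2 : dW I r (r + 1) W z.1 = 0), map_zero]

lemma clsW_res (r : ℤ) {V W : Opens X} (i : V ⟶ W) (z : (dW I r (r + 1) W).ker) :
    clsW I r V ⟨_, res_mem I r i z⟩ =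
      ((CohCx.HDUPresheaf (DerivedCategory.Q.obj I) r).map i.op).hom (clsW I r W z) := by
  have e : (secCycles I r V).symm ⟨_, res_mem I r i z⟩ =
      (((preCx I).cycles r).map i.op).hom ((secCycles I r W).symm z) := by
    apply (secCycles I r V).injective
    rw [AddEquiv.apply_symm_apply]
    refine Subtype.ext ?_
    refine Eq.trans ?_ (congrArg (fun t => t.hom ((secCycles I r W).symm z)) (((preCx I).iCycles r).naturality i.op)).symm
    exact congrArg ((I.X r).obj.map i.op).hom (secCycles_symm_val I r W z).symm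
  refine (congrArg ((cycleMap I r).app (op V)).hom e).trans ?_
  exact congrArg (fun t => t.hom ((secCycles I r W).symm z)) ((cycleMap I r).naturality i.op)

section Bicomplex

variable {ι : Type u} (U : ι → Opens X)

/-- The products of members of the family. -/
abbrev box {p : ℕ} (σ : Fin (p + 1) → ι) : Opens X := ∏ᶜ fun k => U (σ k)

/-- The Čech complex of a presheaf. -/
abbrev cx (P : TopCat.Presheaf AddCommGrpCat.{u} X) : CochainComplex AddCommGrpCat.{u} ℕ :=
  (cechComplexFunctor (A := AddCommGrpCat.{u}) U).obj P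

/-- The hypercohomology presheaves. -/
abbrev hpre (r : ℤ) : TopCat.Presheaf AddCommGrpCat.{u} X :=
  CohCx.HDUPresheaf (DerivedCategory.Q.obj I) r

/-- The column differential. -/
def dC (p : ℕ) (r r' : ℤ) : (cx U (I.X r).obj).X p →+ (cx U (I.X r').obj).X p :=
  (((cechComplexFunctor (A := AddCommGrpCat.{u}) U).map (I.d r r').hom).f p).hom

lemma cev_dC (p : ℕ) (r r' : ℤ) (σ : Fin (p + 1) → ι) (x : (cx U (I.X r).obj).X p) :
    cev U (I.X r').obj p σ (dC I U p r r' x) = dW I r r' (box U σ) (cev U (I.X r).obj p σ x) :=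
  cev_map U (I.X r).obj (I.d r r').hom p σ x

lemma mem_ker_cev {p : ℕ} {r : ℤ} (σ : Fin (p + 1) → ι) (z : (dC I U p r (r + 1)).ker) :
    cev U (I.X r).obj p σ z.1 ∈ (dW I r (r + 1) (box U σ)).ker := by
  rw [AddMonoidHom.mem_ker, ← cev_dC, (z.2 : dC I U p r (r + 1) z.1 = 0), map_zero]

/-- The class of a column cycle. -/
def clsC (p : ℕ) (r : ℤ) : (dC I U p r (r + 1)).ker →+ (cx U (hpre I r)).X p :=
  AddMonoidHom.mk'
    (fun z => (exists_cev U (hpre I r) fun σ => clsW I r (box U σ) ⟨_, mem_ker_cev I U σ z⟩).choose)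
    fun a b => cev_ext U (hpre I r) fun σ => by
      rw [map_add,
        (exists_cev U (hpre I r) fun σ => clsW I r (box U σ) ⟨_, mem_ker_cev I U σ (a + b)⟩).choose_spec σ,
        (exists_cev U (hpre I r) fun σ => clsW I r (box U σ) ⟨_, mem_ker_cev I U σ a⟩).choose_spec σ,
        (exists_cev U (hpre I r) fun σ => clsW I r (box U σ) ⟨_, mem_ker_cev I U σ b⟩).choose_spec σ]
      refine Eq.trans ?_ (map_add _ _ _)
      exact congrArg _ (Subtype.ext (map_add (cev U (I.X r).obj p σ) _ _))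

lemma cev_clsC {p : ℕ} {r : ℤ} (σ : Fin (p + 1) → ι) (z : (dC I U p r (r + 1)).ker) :
    cev U (hpre I r) p σ (clsC I U p r z) = clsW I r (box U σ) ⟨_, mem_ker_cev I U σ z⟩ :=
  (exists_cev U (hpre I r) fun σ => clsW I r (box U σ) ⟨_, mem_ker_cev I U σ z⟩).choose_spec σ

/-- The augmentation. -/
def augC (r : ℤ) : sec I r ⊤ →+ (cx U (I.X r).obj).X 0 :=
  AddMonoidHom.mk'
    (fun s => (exists_cev U (I.X r).obj fun σ => ((I.X r).obj.map (homOfLE (le_top : box U σ ≤ ⊤)).op).hom s).choose)
    fun a b => cev_ext U (I.X r).obj fun σ => by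
      rw [map_add,
        (exists_cev U (I.X r).obj fun σ => ((I.X r).obj.map (homOfLE (le_top : box U σ ≤ ⊤)).op).hom (a + b)).choose_spec σ,
        (exists_cev U (I.X r).obj fun σ => ((I.X r).obj.map (homOfLE (le_top : box U σ ≤ ⊤)).op).hom a).choose_spec σ,
        (exists_cev U (I.X r).obj fun σ => ((I.X r).obj.map (homOfLE (le_top : box U σ ≤ ⊤)).op).hom b).choose_spec σ]
      exact map_add _ _ _

lemma cev_augC (r : ℤ) (σ : Fin 1 → ι) (s : sec I r ⊤) :
    cev U (I.X r).obj 0 σ (augC I U r s) = ((I.X r).obj.map (homOfLE (le_top : box U σ ≤ ⊤)).op).hom s :=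
  (exists_cev U (I.X r).obj fun σ => ((I.X r).obj.map (homOfLE (le_top : box U σ ≤ ⊤)).op).hom s).choose_spec σ

lemma le_box_single {i : ι} {W : Opens X} (h : W ≤ U i) : W ≤ box U (fun _ : Fin 1 => i) :=
  leOfHom (Pi.lift fun _ => homOfLE h : W ⟶ box U (fun _ : Fin 1 => i))

lemma cover_box (hcov : iSup U = ⊤) : (⊤ : Opens X) ≤ ⨆ i, box U (fun _ : Fin 1 => i) := by
  rw [← hcov]
  exact iSup_mono fun i => le_box_single U le_rfl

lemma cd_zero (P : TopCat.Presheaf AddCommGrpCat.{u} X) (σ : Fin 2 → ι) (x : (cx U P).X 0) :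
    cev U P 1 σ (((cx U P).d 0 1).hom x) =
      (P.map (tmap U σ (Fin.succAbove (0 : Fin 2))).op).hom (cev U P 0 (σ ∘ Fin.succAbove (0 : Fin 2)) x) -
      (P.map (tmap U σ (Fin.succAbove (1 : Fin 2))).op).hom (cev U P 0 (σ ∘ Fin.succAbove (1 : Fin 2)) x) := by
  rw [cev_d, Fin.sum_univ_two]
  simp only [Fin.val_zero, pow_zero, one_smul, Fin.val_one, pow_one, neg_smul, ← sub_eq_add_neg]

variable (hcov : iSup U = ⊤) (hI : ∀ r, Injective (I.X r)) (n : ℤ)
include hcov

lemma augC_injective (r : ℤ) : Function.Injective (augC I U r) := fun a b hab =>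
  TopCat.Sheaf.eq_of_locally_eq' (I.X r) (fun i => box U (fun _ : Fin 1 => i)) ⊤ (fun _ => homOfLE le_top)
    (cover_box U hcov) a b fun i =>
      (cev_augC I U r _ a).symm.trans ((congrArg (cev U (I.X r).obj 0 (fun _ => i)) hab).trans (cev_augC I U r _ b))

lemma exists_augC_eq (r : ℤ) (x : (cx U (I.X r).obj).X 0) (hx : ((cx U (I.X r).obj).d 0 1).hom x = 0) :
    ∃ s, augC I U r s = x := by
  let F := (I.X r).obj
  let V := fun i => box U (fun _ : Fin 1 => i)
  have hcomp : TopCat.Presheaf.IsCompatible F V (fun i => cev U F 0 (fun _ => i) x) := by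
    intro i j
    have e := cd_zero U F ![j, i] x
    rw [hx, map_zero] at e
    have h0 : (![j, i] ∘ Fin.succAbove (0 : Fin 2)) = fun _ : Fin 1 => i := by
      funext k; fin_cases k; rfl
    have h1 : (![j, i] ∘ Fin.succAbove (1 : Fin 2)) = fun _ : Fin 1 => j := by
      funext k; fin_cases k; rfl
    have hle : V i ⊓ V j ≤ box U ![j, i] := leOfHom (Pi.lift fun a => homOfLE (by
      fin_cases a
      · exact inf_le_right.trans (leOfHom (Pi.π (fun _ : Fin 1 => U j) 0))
      · exact inf_le_left.trans (leOfHom (Pi.π (fun _ : Fin 1 => U i) 0))) : V i ⊓ V j ⟶ box U ![j, i])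
    have key : ∀ (τ τ' : Fin 1 → ι), τ = τ' → ∀ (W : Opens X) (a : W ⟶ box U τ) (a' : W ⟶ box U τ'),
        (F.map a.op).hom (cev U F 0 τ x) = (F.map a'.op).hom (cev U F 0 τ' x) := by
      rintro τ _ rfl W a a'
      rw [Subsingleton.elim a a']
    have e2 := congrArg (F.map (homOfLE hle).op).hom e.symm
    rw [map_sub, map_zero, sub_eq_zero] at e2
    have hm : ∀ {A B C' : Opens X} (a : B ⟶ A) (b : C' ⟶ B) (c : F.obj (op A)),
        (F.map b.op).hom ((F.map a.op).hom c) = (F.map (b ≫ a).op).hom c :=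
      fun a b c => Groth.Agent.QCoh.Ab.map_map'' F a b (b ≫ a) c
    erw [hm, hm] at e2
    exact (key _ _ h0.symm _ _ _).trans (e2.trans (key _ _ h1 _ _ _))
  obtain ⟨s, hs, -⟩ := TopCat.Sheaf.existsUnique_gluing' (I.X r) V ⊤ (fun _ => homOfLE le_top)
    (cover_box U hcov) (fun i => cev U F 0 (fun _ => i) x) hcomp
  refine ⟨s, cev_ext U F fun σ => ?_⟩
  obtain ⟨k, rfl⟩ : ∃ k, σ = fun _ => k := ⟨σ 0, funext fun j => congrArg σ (Fin.fin_one_eq_zero j)⟩
  exact (cev_augC I U r _ s).trans (hs k)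

omit hcov in
include hI in
lemma exists_d_eq (p : ℕ) (r : ℤ) (x : (cx U (I.X r).obj).X (p + 1))
    (hx : ((cx U (I.X r).obj).d (p + 1) (p + 1 + 1)).hom x = 0) :
    ∃ y, ((cx U (I.X r).obj).d p (p + 1)).hom y = x := by
  haveI := hI r
  haveI := SiteBase.isFlasque_of_injective (I.X r)
  have h : (cx U (I.X r).obj).ExactAt (p + 1) :=
    (HomologicalComplex.exactAt_iff_isZero_homology _ _).2 (S0455.result (I.X r) U p)
  rw [HomologicalComplex.exactAt_iff' _ p (p + 1) (p + 1 + 1) (by simp) (by simp),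
    ShortComplex.ab_exact_iff] at h
  exact h x hx

include hI

/-- The staircase data of Čech cochains. -/
def stair : Stair.{u} where
  C p r := (cx U (I.X r).obj).X p
  d p r r' := dC I U p r r'
  δ p r := ((cx U (I.X r).obj).d p (p + 1)).hom
  d_δ p r r' x := congrArg (fun t => t.hom x)
    (((cechComplexFunctor (A := AddCommGrpCat.{u}) U).map (I.d r r').hom).comm p (p + 1))
  d_d p r r' r'' x := cev_ext U (I.X r'').obj fun σ => by
    rw [cev_dC, cev_dC, map_zero]
    exact congrArg (fun t => (t.hom.app (op (box U σ))).hom (cev U (I.X r).obj p σ x)) (I.d_comp_d r r' r'')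
  δ_δ p r x := congrArg (fun t => t.hom x) ((cx U (I.X r).obj).d_comp_d p (p + 1) (p + 1 + 1))
  row := exists_d_eq I U hI
  S r := sec I r ⊤
  dS r r' := dW I r r' ⊤
  ε := augC I U
  ε_inj := augC_injective I U hcov
  δ_ε r s := cev_ext U (I.X r).obj fun σ => by
    rw [map_zero, cd_zero, sub_eq_zero, cev_augC, cev_augC]
    erw [Groth.Agent.QCoh.Ab.map_map'' (I.X r).obj _ _ (homOfLE le_top),
      Groth.Agent.QCoh.Ab.map_map'' (I.X r).obj _ _ (homOfLE le_top)]
  row_zero := exists_augC_eq I U hcov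
  d_ε r r' s := cev_ext U (I.X r').obj fun σ => by
    rw [cev_dC, cev_augC, cev_augC, dW_res]
  Hc p r := (cx U (hpre I r)).X p
  cls := clsC I U
  cls_surj p r y := by
    choose z hz using fun σ => clsW_surjective I r (box U σ) (cev U (hpre I r) p σ y)
    obtain ⟨x, hx⟩ := exists_cev U (I.X r).obj fun σ => (z σ).1
    have hx0 : dC I U p r (r + 1) x = 0 := cev_ext U (I.X (r + 1)).obj fun σ => by
      rw [cev_dC, hx, map_zero]
      exact (z σ).2
    exact ⟨⟨x, hx0⟩, cev_ext U (hpre I r) fun σ => (cev_clsC I U σ _).trans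
      ((congrArg _ (Subtype.ext (hx σ))).trans (hz σ))⟩
  cls_eq_zero p r r' h z := by
    constructor
    · intro hz
      have hy : ∀ σ, ∃ y, dW I r r' (box U σ) y = cev U (I.X r').obj p σ z.1 := fun σ =>
        (clsW_eq_zero_iff I r r' h (box U σ) ⟨_, mem_ker_cev I U σ z⟩).1 (by
          rw [← cev_clsC, hz, map_zero])
      choose y hy using hy
      obtain ⟨x, hx⟩ := exists_cev U (I.X r).obj y
      exact ⟨x, cev_ext U (I.X r').obj fun σ => by rw [cev_dC, hx, hy]⟩
    · rintro ⟨v, hv⟩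
      exact cev_ext U (hpre I r') fun σ => by
        rw [cev_clsC, map_zero]
        exact (clsW_eq_zero_iff I r r' h (box U σ) _).2 ⟨_, by rw [← cev_dC, hv]⟩
  δh p r := ((cx U (hpre I r)).d p (p + 1)).hom
  δh_cls p r z := cev_ext U (hpre I r) fun σ => by
    rw [cev_d, cev_clsC]
    let τ : Fin (p + 2) → (dW I r (r + 1) (box U σ)).ker := fun j =>
      ⟨_, res_mem I r (tmap U σ j.succAbove) ⟨_, mem_ker_cev I U (σ ∘ j.succAbove) z⟩⟩
    refine Eq.trans (Finset.sum_congr rfl fun j _ => congrArg ((-1 : ℤ) ^ (j : ℕ) • ·)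
      ((congrArg _ (cev_clsC I U _ z)).trans (clsW_res I r _ _).symm)) ?_
    refine (Finset.sum_congr rfl fun j _ => (map_zsmul (clsW I r (box U σ)) _ (τ j)).symm).trans ?_
    rw [← map_sum]
    refine congrArg _ (Subtype.ext ((AddSubgroup.val_finsetSum _ _ _).trans ?_))
    exact (cev_d U (I.X r).obj p σ z.1).symm
  n := n
  Hg := (hpre I n).obj (op ⊤)
  clsS := clsW I n ⊤
  clsS_surj := clsW_surjective I n ⊤
  clsS_eq_zero z r h ht := (clsW_eq_zero_iff I r n h ⊤ z).2 ht
  clsS_eq_zero' z hz := (congrArg _ (Subtype.ext hz)).trans (map_zero (clsW I n ⊤))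

/-- The filtration on hypercohomology of a complex of injectives. -/
theorem main (b : ℤ) (hb : ∀ r, r < b → IsZero (I.X r)) :
    ∃ (N : ℕ) (G : ℕ → Submodule ℤ (CohCx.HDU (DerivedCategory.Q.obj I) n (⊤ : Opens X))),
      Antitone G ∧ G 0 = ⊤ ∧ G N = ⊥ ∧
      G 1 = ⨅ i, AddSubgroup.toIntSubmodule
        (CohCx.HDUres (DerivedCategory.Q.obj I) n (homOfLE le_top : U i ⟶ (⊤ : Opens X))).ker ∧
      ∀ p : ℕ, HTor.IsSubquotient ℤ (HTor.grDesc G p) (CohB1.cechHTop U (hpre I (n - p)) p) := by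
  let D := stair I U hcov hI n
  refine ⟨(n - b).toNat + 1, D.G, D.antitone_G, D.G_zero, D.G_eq_bot _ fun r hr z => ?_, ?_, fun p => ?_⟩
  · refine cev_ext U (I.X r).obj fun σ => ?_
    have hz := hb r (by
      have : r + (((n - b).toNat + 1 : ℕ) : ℤ) = n := hr
      lia)
    have : Subsingleton (sec I r (box U σ)) := ⟨fun a b => by
      apply (secEquiv (Opens.grothendieckTopology X) (box U σ) (I.X r)).symm.injective
      exact hz.eq_of_tgt _ _⟩
    exact Subsingleton.elim _ _
  · ext x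
    rw [Submodule.mem_iInf]
    constructor
    · intro hx i
      obtain ⟨s, h, hc, rfl⟩ := D.mem_G_one_iff.1 hx
      have e := congrArg (cev U (hpre I n) 0 (fun _ => i)) hc
      rw [map_zero] at e
      have e' : ((hpre I n).map (homOfLE (le_top : box U (fun _ : Fin 1 => i) ≤ ⊤)).op).hom (clsW I n ⊤ s) = 0 := by
        rw [← clsW_res]
        refine Eq.trans ?_ ((cev_clsC I U _ _).symm.trans e)
        exact congrArg _ (Subtype.ext (cev_augC I U n _ s.1).symm)
      have := congrArg ((hpre I n).map (homOfLE (le_box_single U (le_refl (U i)))).op).hom e'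
      rw [map_zero, Groth.Agent.QCoh.Ab.map_map'' (hpre I n) _ _ (homOfLE le_top)] at this
      exact this
    · intro hx
      obtain ⟨s, rfl⟩ := D.clsS_surj x
      have h : dC I U 0 n (n + 1) (augC I U n s.1) = 0 := by
        refine cev_ext U (I.X (n + 1)).obj fun σ => ?_
        rw [cev_dC, cev_augC, dW_res, map_zero]
        exact (congrArg _ (s.2 : dW I n (n + 1) ⊤ s.1 = 0)).trans (map_zero _)
      refine D.mem_G_one_iff.2 ⟨s, h, cev_ext U (hpre I n) fun σ => ?_, rfl⟩
      rw [map_zero]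
      refine (cev_clsC I U σ _).trans ?_
      refine (congrArg _ (Subtype.ext (cev_augC I U n σ s.1))).trans ((clsW_res I n _ s).trans ?_)
      have h2 : ((hpre I n).map (homOfLE (le_top : U (σ 0) ≤ ⊤)).op).hom (clsW I n ⊤ s) = 0 := hx (σ 0)
      have h3 := congrArg ((hpre I n).map (Pi.π (fun k => U (σ k)) 0).op).hom h2
      rw [map_zero, Groth.Agent.QCoh.Ab.map_map'' (hpre I n) _ _ (homOfLE le_top)] at h3
      exact h3
  · rcases p with _ | q
    · refine D.isSubquotient_grDesc_zero _ (classOf (cx U (hpre I (n - (0 : ℕ)))) 0) fun c hc => ?_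
      obtain ⟨y, hy⟩ := classOf_eq_zero (cx U (hpre I (n - (0 : ℕ)))) (j := 0) (by simp) c hc
      refine Subtype.ext (hy.symm.trans ?_)
      rw [(cx U (hpre I (n - (0 : ℕ)))).shape 0 0 (by simp)]
      rfl
    · exact D.isSubquotient_grDesc_succ q _ (classOf (cx U (hpre I (n - (q + 1 : ℕ)))) (q + 1)) fun c hc =>
        classOf_eq_zero (cx U (hpre I (n - (q + 1 : ℕ)))) (j := q) (by simp) c hc

end Bicomplex

end Groth.Agent.CechFil

end

namespace Groth.Agent.CechFil

/-- Being a subquotient is invariant under isomorphisms. -/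
theorem isSubquotient_congr {N N' T T' : Type u} [AddCommGroup N] [AddCommGroup N'] [AddCommGroup T] [AddCommGroup T']
    (e : N' ≃ₗ[ℤ] N) (f : T ≃ₗ[ℤ] T') (h : HTor.IsSubquotient ℤ N T) : HTor.IsSubquotient ℤ N' T' := by
  obtain ⟨S, S', hS, ⟨g⟩⟩ := h
  let q : ↥S' →ₗ[ℤ] N' := e.symm.toLinearMap.comp (g.symm.toLinearMap.comp (Submodule.mkQ _))
  refine isSubquotient_of_maps q
    ((e.symm.surjective.comp g.symm.surjective).comp (Submodule.mkQ_surjective _))
    (f.toLinearMap.comp S'.subtype) fun a ha => ?_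
  have h0 : a = 0 := Subtype.ext (f.injective ((LinearMap.mem_ker.1 ha).trans (map_zero f).symm))
  rw [h0]
  exact zero_mem _

end Groth.Agent.CechFil
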