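import Groth.Prelude.Def_HTor
import Mathlib.LinearAlgebra.Isomorphisms

/-!
# The staircase filtration of a bicomplex with exact rows
-/

set_option autoImplicit false

universe u

open CategoryTheory

noncomputable section

namespace Groth.Agent.CechFil

/-- A quotient of a subgroup is a subquotient. -/
theorem isSubquotient_of_maps {A N T : Type u} [AddCommGroup A] [AddCommGroup N] [AddCommGroup T]
    (f : A →ₗ[ℤ] N) (hf : Function.Surjective f) (g : A →ₗ[ℤ] T)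
    (hk : LinearMap.ker g ≤ LinearMap.ker f) : HTor.IsSubquotient ℤ N T := by
  have hle : (LinearMap.ker f).map g ≤ LinearMap.range g := LinearMap.map_le_range
  refine ⟨(LinearMap.ker f).map g, LinearMap.range g, hle, ?_⟩
  let h : A →ₗ[ℤ] (↥(LinearMap.range g) ⧸ Submodule.comap (LinearMap.range g).subtype ((LinearMap.ker f).map g)) :=
    (Submodule.mkQ _).comp g.rangeRestrict
  have hker : LinearMap.ker h = LinearMap.ker f := by
    ext a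
    rw [LinearMap.mem_ker, LinearMap.comp_apply, Submodule.mkQ_apply, Submodule.Quotient.mk_eq_zero]
    constructor
    · rintro ⟨b, hb, hab⟩
      have : a - b ∈ LinearMap.ker f := hk (by
        rw [LinearMap.mem_ker, map_sub, sub_eq_zero]
        exact hab.symm)
      have h2 := (LinearMap.ker f).add_mem this hb
      rwa [sub_add_cancel] at h2
    · intro ha
      exact ⟨a, ha, rfl⟩
  have hs : Function.Surjective h :=
    (Submodule.mkQ_surjective _).comp g.surjective_rangeRestrict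
  exact ⟨(LinearMap.quotKerEquivOfSurjective f hf).symm ≪≫ₗ Submodule.quotEquivOfEq _ _ hker.symm ≪≫ₗ
    LinearMap.quotKerEquivOfSurjective h hs⟩

/-- A bicomplex with augmented exact rows, and the cohomology of its columns. -/
structure Stair where
  /-- The terms. -/
  C : ℕ → ℤ → AddCommGrpCat.{u}
  /-- The vertical differentials. -/
  d : ∀ p r r', C p r →+ C p r'
  /-- The horizontal differentials. -/
  δ : ∀ p r, C p r →+ C (p + 1) r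
  d_δ : ∀ p r r' x, δ p r' (d p r r' x) = d (p + 1) r r' (δ p r x)
  d_d : ∀ p r r' r'' x, d p r' r'' (d p r r' x) = 0
  δ_δ : ∀ p r x, δ (p + 1) r (δ p r x) = 0
  row : ∀ p r x, δ (p + 1) r x = 0 → ∃ y, δ p r y = x
  /-- The augmentation terms. -/
  S : ℤ → AddCommGrpCat.{u}
  /-- The differentials of the augmentation terms. -/
  dS : ∀ r r', S r →+ S r'
  /-- The augmentation. -/
  ε : ∀ r, S r →+ C 0 r
  ε_inj : ∀ r, Function.Injective (ε r)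
  δ_ε : ∀ r s, δ 0 r (ε r s) = 0
  row_zero : ∀ r x, δ 0 r x = 0 → ∃ s, ε r s = x
  d_ε : ∀ r r' s, d 0 r r' (ε r s) = ε r' (dS r r' s)
  /-- The cohomology of the columns. -/
  Hc : ℕ → ℤ → AddCommGrpCat.{u}
  /-- The class of a column cycle. -/
  cls : ∀ p r, (d p r (r + 1)).ker →+ Hc p r
  cls_surj : ∀ p r, Function.Surjective (cls p r)
  cls_eq_zero : ∀ p r r', r + 1 = r' → ∀ z : (d p r' (r' + 1)).ker, cls p r' z = 0 ↔ ∃ v, d p r r' v = (z : C p r')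
  /-- The differential on the cohomology of the columns. -/
  δh : ∀ p r, Hc p r →+ Hc (p + 1) r
  δh_cls : ∀ p r (z : (d p r (r + 1)).ker), δh p r (cls p r z) =
    cls (p + 1) r ⟨δ p r z.1, by
      rw [AddMonoidHom.mem_ker, ← d_δ, (z.2 : d p r (r + 1) z.1 = 0), map_zero]⟩
  /-- The degree of the abutment. -/
  n : ℤ
  /-- The abutment. -/
  Hg : AddCommGrpCat.{u}
  /-- The class of a cycle in the abutment. -/
  clsS : (dS n (n + 1)).ker →+ Hg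
  clsS_surj : Function.Surjective clsS
  clsS_eq_zero : ∀ (z : (dS n (n + 1)).ker) (r : ℤ), r + 1 = n → (∃ t, dS r n t = (z : S n)) → clsS z = 0
  clsS_eq_zero' : ∀ (z : (dS n (n + 1)).ker), (z : S n) = 0 → clsS z = 0

namespace Stair

variable (D : Stair.{u})

/-- `R p r s z`: `z` is obtained from `s` by `p` steps of the staircase. -/
def R : ∀ (p : ℕ) (r : ℤ), D.S D.n → D.C p r → Prop
  | 0, r, s, z => ∃ h : D.n = r, z = D.ε r (h ▸ s)
  | p + 1, r, s, z => ∃ z', R p (r + 1) s z' ∧ ∃ w, D.d p r (r + 1) w = z' ∧ D.δ p r w = z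

lemma R_zero_iff {s : D.S D.n} {z : D.C 0 D.n} : D.R 0 D.n s z ↔ z = D.ε D.n s :=
  ⟨fun ⟨_, h⟩ => h, fun h => ⟨rfl, h⟩⟩

lemma R_add : ∀ (p : ℕ) (r : ℤ) (_ : r + p = D.n) {s s' : D.S D.n} {z z' : D.C p r},
    D.R p r s z → D.R p r s' z' → D.R p r (s + s') (z + z')
  | 0, r, h, s, s', z, z', ⟨e, hz⟩, ⟨_, hz'⟩ => by
    subst e
    exact ⟨rfl, by rw [hz, hz', ← map_add]⟩
  | p + 1, r, h, s, s', z, z', ⟨a, ha, w, hw, hwz⟩, ⟨a', ha', w', hw', hwz'⟩ =>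
    ⟨a + a', R_add p (r + 1) (by push_cast at h; lia) ha ha', w + w', by rw [map_add, hw, hw'], by rw [map_add, hwz, hwz']⟩

lemma R_neg : ∀ (p : ℕ) (r : ℤ) {s : D.S D.n} {z : D.C p r}, D.R p r s z → D.R p r (-s) (-z)
  | 0, r, s, z, ⟨e, hz⟩ => by
    subst e
    exact ⟨rfl, by rw [hz, ← map_neg]⟩
  | p + 1, r, s, z, ⟨a, ha, w, hw, hwz⟩ =>
    ⟨-a, R_neg p (r + 1) ha, -w, by rw [map_neg, hw], by rw [map_neg, hwz]⟩

lemma R_zero_zero : ∀ (p : ℕ) (r : ℤ), r + p = D.n → D.R p r 0 0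
  | 0, r, h => by
    obtain rfl : r = D.n := by simpa using h
    exact ⟨rfl, by rw [map_zero]⟩
  | p + 1, r, h => ⟨0, R_zero_zero p (r + 1) (by push_cast at h; lia), 0, map_zero _, map_zero _⟩

lemma R_cycle : ∀ (p : ℕ) (r : ℤ) {s : D.S D.n} {z : D.C p r}, D.dS D.n (D.n + 1) s = 0 → D.R p r s z →
    D.d p r (r + 1) z = 0 ∧ D.δ p r z = 0
  | 0, r, s, z, hs, ⟨e, hz⟩ => by
    subst e
    subst hz
    exact ⟨by rw [D.d_ε, hs, map_zero], D.δ_ε _ _⟩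
  | p + 1, r, s, z, hs, ⟨a, ha, w, hw, hwz⟩ => by
    subst hwz
    exact ⟨by rw [← D.d_δ, hw, (R_cycle p (r + 1) hs ha).2], D.δ_δ _ _ _⟩

lemma R_modify {q : ℕ} {r : ℤ} {s : D.S D.n} {z : D.C (q + 1) r} (u : D.C q r) (hu : D.d q r (r + 1) u = 0)
    (h : D.R (q + 1) r s z) : D.R (q + 1) r s (z - D.δ q r u) := by
  obtain ⟨a, ha, w, hw, hwz⟩ := h
  exact ⟨a, ha, w - u, by rw [map_sub, hw, hu, sub_zero], by rw [map_sub, hwz]⟩

/-- Moving the degree of the abutment along an equality. -/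
lemma d_cast {r m : ℤ} (e : D.n = m) (s : D.S D.n) (w : D.C 0 r)
    (h : D.d 0 r m w = D.ε m (e ▸ s)) : D.d 0 r D.n w = D.ε D.n s := by
  subst e
  exact h

lemma d_uncast {r m : ℤ} (e : D.n = m) (s : D.S D.n) (w : D.C 0 r)
    (h : D.d 0 r D.n w = D.ε D.n s) : D.d 0 r m w = D.ε m (e ▸ s) := by
  subst e
  exact h

lemma R_step {p : ℕ} {r r' : ℤ} (e : r' + 1 = r) {s : D.S D.n} {z : D.C p r} (v : D.C p r')
    (hv : D.d p r' r v = z) (h : D.R p r s z) : D.R (p + 1) r' s (D.δ p r' v) := by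
  subst e
  exact ⟨z, h, v, hv, rfl⟩

lemma clsS_of_R_zero : ∀ (p : ℕ) (r : ℤ) (s : (D.dS D.n (D.n + 1)).ker), D.R p r s.1 0 → D.clsS s = 0
  | 0, r, s, ⟨e, hz⟩ => by
    subst e
    exact D.clsS_eq_zero' s (D.ε_inj _ (hz.symm.trans (map_zero _).symm))
  | 1, r, s, ⟨a, ⟨e, ha⟩, w, hw, hwz⟩ => by
    obtain ⟨t, rfl⟩ := D.row_zero r w hwz
    exact D.clsS_eq_zero s r e.symm ⟨t, D.ε_inj _ ((D.d_ε r D.n t).symm.trans
      (D.d_cast e s.1 _ (hw.trans ha)))⟩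
  | q + 2, r, s, ⟨a, ha, w, hw, hwz⟩ => by
    obtain ⟨v, rfl⟩ := D.row q r w hwz
    refine clsS_of_R_zero (q + 1) (r + 1) s ?_
    have h2 := D.R_modify (D.d q r (r + 1) v) (D.d_d _ _ _ _ _) ha
    rwa [D.d_δ, hw, sub_self] at h2

/-- The filtration. -/
def G (p : ℕ) : Submodule ℤ D.Hg :=
  AddSubgroup.toIntSubmodule
    { carrier := {x | ∃ (s : (D.dS D.n (D.n + 1)).ker) (r : ℤ) (z : D.C p r),
        r + p = D.n ∧ D.R p r s.1 z ∧ D.clsS s = x}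
      add_mem' := by
        rintro x y ⟨s, r, z, hr, hR, rfl⟩ ⟨s', r', z', hr', hR', rfl⟩
        obtain rfl : r = r' := by lia
        exact ⟨s + s', r, z + z', hr, D.R_add p r hr hR hR', map_add _ _ _⟩
      zero_mem' := ⟨0, D.n - p, 0, by lia, D.R_zero_zero p _ (by lia), map_zero _⟩
      neg_mem' := by
        rintro x ⟨s, r, z, hr, hR, rfl⟩
        exact ⟨-s, r, -z, hr, D.R_neg p r hR, map_neg _ _⟩ }

lemma mem_G {p : ℕ} {x : D.Hg} : x ∈ D.G p ↔ ∃ (s : (D.dS D.n (D.n + 1)).ker) (r : ℤ) (z : D.C p r),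
    r + p = D.n ∧ D.R p r s.1 z ∧ D.clsS s = x :=
  Iff.rfl

lemma G_zero : D.G 0 = ⊤ := by
  refine eq_top_iff.2 fun x _ => ?_
  obtain ⟨s, rfl⟩ := D.clsS_surj x
  exact D.mem_G.2 ⟨s, D.n, D.ε D.n s.1, by simp, D.R_zero_iff.2 rfl, rfl⟩

lemma antitone_G : Antitone D.G := antitone_nat_of_succ_le fun p x hx => by
  obtain ⟨s, r, z, hr, ⟨a, ha, -⟩, rfl⟩ := D.mem_G.1 hx
  exact D.mem_G.2 ⟨s, r + 1, a, by push_cast at hr; lia, ha, rfl⟩

lemma G_eq_bot (N : ℕ) (hN : ∀ r : ℤ, r + N = D.n → ∀ z : D.C N r, z = 0) : D.G N = ⊥ := by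
  refine eq_bot_iff.2 fun x hx => ?_
  obtain ⟨s, r, z, hr, hR, rfl⟩ := D.mem_G.1 hx
  obtain rfl := hN r hr z
  exact (Submodule.mem_bot _).2 (D.clsS_of_R_zero N r s hR)

lemma mem_G_one_iff {x : D.Hg} : x ∈ D.G 1 ↔ ∃ (s : (D.dS D.n (D.n + 1)).ker)
    (h : D.d 0 D.n (D.n + 1) (D.ε D.n s.1) = 0), D.cls 0 D.n ⟨_, h⟩ = 0 ∧ D.clsS s = x := by
  constructor
  · intro hx
    obtain ⟨s, r, z, hr, ⟨a, ⟨e, ha⟩, w, hw, hwz⟩, rfl⟩ := D.mem_G.1 hx
    exact ⟨s, by rw [D.d_ε, (s.2 : D.dS _ _ s.1 = 0), map_zero],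
      (D.cls_eq_zero 0 r D.n e.symm _).2 ⟨w, D.d_cast e s.1 w (hw.trans ha)⟩, rfl⟩
  · rintro ⟨s, h, hc, rfl⟩
    obtain ⟨v, hv⟩ := (D.cls_eq_zero 0 (D.n - 1) D.n (by lia) _).1 hc
    have e : D.n = D.n - 1 + 1 := by lia
    exact D.mem_G.2 ⟨s, D.n - 1, D.δ 0 (D.n - 1) v, by simp,
      ⟨_, ⟨e, rfl⟩, v, D.d_uncast e s.1 v hv, rfl⟩, rfl⟩

/-- The graded pieces are subquotients. -/
theorem isSubquotient_grDesc (p : ℕ) (T : Type u) [AddCommGroup T]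
    (π : (D.δh p (D.n - p)).ker →+ T)
    (hstep : ∀ (s : (D.dS D.n (D.n + 1)).ker) (z : D.C p (D.n - p)) (hz : D.d p (D.n - p) (D.n - p + 1) z = 0)
      (hc : D.cls p (D.n - p) ⟨z, hz⟩ ∈ (D.δh p (D.n - p)).ker),
      D.R p (D.n - p) s.1 z → π ⟨_, hc⟩ = 0 → D.clsS s ∈ D.G (p + 1)) :
    HTor.IsSubquotient ℤ (HTor.grDesc D.G p) T := by
  let A : AddSubgroup (D.Hg × T) :=
    { carrier := {a | ∃ (s : (D.dS D.n (D.n + 1)).ker) (z : D.C p (D.n - p))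
        (hz : D.d p (D.n - p) (D.n - p + 1) z = 0) (hc : D.cls p (D.n - p) ⟨z, hz⟩ ∈ (D.δh p (D.n - p)).ker),
        D.R p (D.n - p) s.1 z ∧ D.clsS s = a.1 ∧ π ⟨_, hc⟩ = a.2}
      add_mem' := by
        rintro a b ⟨s, z, hz, hc, hR, h1, h2⟩ ⟨s', z', hz', hc', hR', h1', h2'⟩
        have hzz : D.d p (D.n - p) (D.n - p + 1) (z + z') = 0 := by rw [map_add, hz, hz', add_zero]
        have hcc : D.cls p (D.n - p) ⟨z + z', hzz⟩ = D.cls p (D.n - p) ⟨z, hz⟩ + D.cls p (D.n - p) ⟨z', hz'⟩ :=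
          (map_add (D.cls p (D.n - p)) ⟨z, hz⟩ ⟨z', hz'⟩)
        refine ⟨s + s', z + z', hzz, by rw [hcc]; exact add_mem hc hc', D.R_add p _ (by lia) hR hR', ?_, ?_⟩
        · exact (map_add _ _ _).trans (by rw [h1, h1']; rfl)
        · exact ((congrArg π (Subtype.ext hcc)).trans (map_add π ⟨_, hc⟩ ⟨_, hc'⟩)).trans (by rw [h2, h2']; rfl)
      zero_mem' := by
        have hc : D.cls p (D.n - p) ⟨0, map_zero _⟩ = 0 := map_zero (D.cls p (D.n - p))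
        exact ⟨0, 0, map_zero _, by rw [hc]; exact zero_mem _, D.R_zero_zero p _ (by lia), map_zero _,
          (congrArg π (Subtype.ext hc)).trans (map_zero π)⟩
      neg_mem' := by
        rintro a ⟨s, z, hz, hc, hR, h1, h2⟩
        have hzz : D.d p (D.n - p) (D.n - p + 1) (-z) = 0 := by rw [map_neg, hz, neg_zero]
        have hcc : D.cls p (D.n - p) ⟨-z, hzz⟩ = -D.cls p (D.n - p) ⟨z, hz⟩ := map_neg (D.cls p (D.n - p)) ⟨z, hz⟩
        refine ⟨-s, -z, hzz, by rw [hcc]; exact neg_mem hc, D.R_neg p _ hR, ?_, ?_⟩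
        · exact (map_neg _ _).trans (by rw [h1]; rfl)
        · exact ((congrArg π (Subtype.ext hcc)).trans (map_neg π ⟨_, hc⟩)).trans (by rw [h2]; rfl) }
  have hmem : ∀ a : A, (a : D.Hg × T).1 ∈ D.G p := by
    rintro ⟨a, s, z, hz, hc, hR, h1, -⟩
    exact D.mem_G.2 ⟨s, D.n - p, z, by lia, hR, h1⟩
  let f₁ : A →+ ↥(D.G p) := AddMonoidHom.mk' (fun a => ⟨(a : D.Hg × T).1, hmem a⟩) fun _ _ => rfl
  let f : A →ₗ[ℤ] HTor.grDesc D.G p := (Submodule.mkQ _).comp f₁.toIntLinearMap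
  let g : A →ₗ[ℤ] T := ((AddMonoidHom.snd D.Hg T).comp A.subtype).toIntLinearMap
  refine isSubquotient_of_maps f (fun y => ?_) g fun a ha => ?_
  · obtain ⟨⟨x, hx⟩, rfl⟩ := Submodule.Quotient.mk_surjective _ y
    obtain ⟨s, r, z, hr, hR, rfl⟩ := D.mem_G.1 hx
    obtain rfl : r = D.n - p := by lia
    obtain ⟨h1, h2⟩ := D.R_cycle p _ s.2 hR
    have hc : D.cls p (D.n - p) ⟨z, h1⟩ ∈ (D.δh p (D.n - p)).ker := by
      rw [AddMonoidHom.mem_ker, D.δh_cls]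
      exact (congrArg (D.cls (p + 1) (D.n - p)) (Subtype.ext h2)).trans (map_zero _)
    exact ⟨⟨(D.clsS s, π ⟨_, hc⟩), s, z, h1, hc, hR, rfl, rfl⟩, rfl⟩
  · obtain ⟨a, s, z, hz, hc, hR, h1, h2⟩ := a
    rw [LinearMap.mem_ker] at ha ⊢
    show Submodule.Quotient.mk _ = 0
    rw [Submodule.Quotient.mk_eq_zero]
    show a.1 ∈ D.G (p + 1)
    rw [← h1]
    exact hstep s z hz hc hR (h2.trans ha)

/-- The first step. -/
theorem isSubquotient_grDesc_zero (T : Type u) [AddCommGroup T]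
    (π : (D.δh 0 (D.n - (0 : ℕ))).ker →+ T) (hπ : ∀ c, π c = 0 → c = 0) :
    HTor.IsSubquotient ℤ (HTor.grDesc D.G 0) T := by
  refine D.isSubquotient_grDesc 0 T π fun s z hz hc hR h => ?_
  have h0 : D.cls 0 (D.n - (0 : ℕ)) ⟨z, hz⟩ = 0 := congrArg Subtype.val (hπ _ h)
  obtain ⟨v, hv⟩ := (D.cls_eq_zero 0 (D.n - (0 : ℕ) - 1) _ (by lia) _).1 h0
  exact D.mem_G.2 ⟨s, _, _, by simp, D.R_step (by lia) v hv hR, rfl⟩

/-- The later steps. -/
theorem isSubquotient_grDesc_succ (q : ℕ) (T : Type u) [AddCommGroup T]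
    (π : (D.δh (q + 1) (D.n - (q + 1 : ℕ))).ker →+ T)
    (hπ : ∀ c, π c = 0 → ∃ b, D.δh q (D.n - (q + 1 : ℕ)) b = c.1) :
    HTor.IsSubquotient ℤ (HTor.grDesc D.G (q + 1)) T := by
  refine D.isSubquotient_grDesc (q + 1) T π fun s z hz hc hR h => ?_
  obtain ⟨b, hb⟩ := hπ _ h
  obtain ⟨⟨u, hu⟩, rfl⟩ := D.cls_surj q _ b
  rw [D.δh_cls] at hb
  have hd : D.d (q + 1) (D.n - (q + 1 : ℕ)) (D.n - (q + 1 : ℕ) + 1) (D.δ q _ u) = 0 := by
    rw [← D.d_δ, (hu : D.d q _ _ u = 0), map_zero]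
  have hz' : D.d (q + 1) (D.n - (q + 1 : ℕ)) (D.n - (q + 1 : ℕ) + 1) (z - D.δ q _ u) = 0 := by
    rw [map_sub, hz, hd, sub_zero]
  have h0 : D.cls (q + 1) (D.n - (q + 1 : ℕ)) ⟨_, hz'⟩ = 0 :=
    (map_sub (D.cls (q + 1) (D.n - (q + 1 : ℕ))) ⟨z, hz⟩ ⟨_, hd⟩).trans (sub_eq_zero.2 hb.symm)
  obtain ⟨v, hv⟩ := (D.cls_eq_zero (q + 1) (D.n - (q + 1 : ℕ) - 1) _ (by lia) _).1 h0
  exact D.mem_G.2 ⟨s, _, _, by push_cast; lia, D.R_step (by lia) v hv (D.R_modify u hu hR), rfl⟩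

end Stair

end Groth.Agent.CechFil

end
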